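import Groth.Prelude.Def_EtTens2
import Groth.Agent.EtIntegral.BaseChange
import Mathlib

/-!
The fibre at a geometric point of the pointwise tensor product of presheaves of abelian groups is the tensor
product of the fibres.
-/

set_option autoImplicit false
set_option backward.isDefEq.respectTransparency false
set_option linter.style.haveILetI false

universe u

open CategoryTheory CategoryTheory.Limits AlgebraicGeometry Opposite TensorProduct

namespace Groth.Agent.EtTensorStalk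

variable {S : Scheme.{u}} {Ω : Type u} [Field Ω] [IsSepClosed Ω] (ξ : Spec (CommRingCat.of Ω) ⟶ S)

/-- fibre of a presheaf -/
noncomputable abbrev fib (P : S.Etaleᵒᵖ ⥤ AddCommGrpCat.{u + 1}) : AddCommGrpCat.{u + 1} :=
  (Scheme.pointSmallEtale ξ).presheafFiber.obj P

/-- germ in the fibre of a presheaf -/
noncomputable abbrev gm (P : S.Etaleᵒᵖ ⥤ AddCommGrpCat.{u + 1}) (X : S.Etale)
    (x : (Scheme.pointSmallEtale ξ).fiber.obj X) (p : P.obj (op X)) : fib ξ P :=
  (Scheme.pointSmallEtale ξ).toPresheafFiber X x P p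

theorem gm_map (P : S.Etaleᵒᵖ ⥤ AddCommGrpCat.{u + 1}) {X Y : S.Etale} (f : X ⟶ Y)
    (x : (Scheme.pointSmallEtale ξ).fiber.obj X) (p : P.obj (op Y)) :
    gm ξ P X x (P.map f.op p) = gm ξ P Y ((Scheme.pointSmallEtale ξ).fiber.map f x) p :=
  GrothendieckTopology.Point.toPresheafFiber_w_apply (Scheme.pointSmallEtale ξ) f x P p

variable (P Q : S.Etaleᵒᵖ ⥤ AddCommGrpCat.{u + 1})

/-- common refinement of two neighbourhoods -/
theorem exists_common {X Y : S.Etale} (x : (Scheme.pointSmallEtale ξ).fiber.obj X)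
    (y : (Scheme.pointSmallEtale ξ).fiber.obj Y) :
    ∃ (Z : S.Etale) (z : (Scheme.pointSmallEtale ξ).fiber.obj Z) (a : Z ⟶ X) (b : Z ⟶ Y),
      (Scheme.pointSmallEtale ξ).fiber.map a z = x ∧ (Scheme.pointSmallEtale ξ).fiber.map b z = y := by
  haveI := (Scheme.pointSmallEtale ξ).isCofiltered
  let e₁ : (Scheme.pointSmallEtale ξ).fiber.Elements := ⟨X, x⟩
  let e₂ : (Scheme.pointSmallEtale ξ).fiber.Elements := ⟨Y, y⟩
  obtain ⟨e, a, b, -⟩ := IsCofilteredOrEmpty.cone_objs e₁ e₂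
  exact ⟨e.1, e.2, a.1, b.1, a.2, b.2⟩

theorem exists_rep₂ (a : fib ξ P)
    (b : fib ξ Q) :
    ∃ (X : S.Etale) (x : (Scheme.pointSmallEtale ξ).fiber.obj X) (p : P.obj (op X)) (q : Q.obj (op X)),
      gm ξ P X x p = a ∧ gm ξ Q X x q = b := by
  obtain ⟨X, x, p, rfl⟩ := (Scheme.pointSmallEtale ξ).toPresheafFiber_jointly_surjective (P := P) a
  obtain ⟨Y, y, q, rfl⟩ := (Scheme.pointSmallEtale ξ).toPresheafFiber_jointly_surjective (P := Q) b
  obtain ⟨Z, z, f, g, hf, hg⟩ := exists_common ξ x y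
  exact ⟨Z, z, P.map f.op p, Q.map g.op q, by rw [gm_map, hf], by rw [gm_map, hg]⟩

theorem gm_tmul_congr {X X' : S.Etale} (x : (Scheme.pointSmallEtale ξ).fiber.obj X)
    (x' : (Scheme.pointSmallEtale ξ).fiber.obj X') (p : P.obj (op X)) (q : Q.obj (op X))
    (p' : P.obj (op X')) (q' : Q.obj (op X')) (hp : gm ξ P X x p = gm ξ P X' x' p')
    (hq : gm ξ Q X x q = gm ξ Q X' x' q') :
    gm ξ (EtTens.tensorObj P Q) X x (p ⊗ₜ q) = gm ξ (EtTens.tensorObj P Q) X' x' (p' ⊗ₜ q') := by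
  obtain ⟨Z, z, f, f', rfl, rfl⟩ := exists_common ξ x x'
  rw [← gm_map, ← gm_map] at hp hq
  obtain ⟨W, g, w, rfl, hW⟩ := (GrothendieckTopology.Point.toPresheafFiber_eq_iff' _ _ _ _ _).mp hp
  rw [← gm_map, ← gm_map] at hq
  obtain ⟨W', g', w', rfl, hW'⟩ := (GrothendieckTopology.Point.toPresheafFiber_eq_iff' _ _ _ _ _).mp hq
  simp only [← gm_map]
  rw [EtTens.tensorObj_map_tmul, EtTens.tensorObj_map_tmul, EtTens.tensorObj_map_tmul, EtTens.tensorObj_map_tmul,
    EtTens.tensorObj_map_tmul, EtTens.tensorObj_map_tmul, hW, hW']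

/-- the comparison map -/
noncomputable def delta : fib ξ (EtTens.tensorObj P Q) ⟶
    AddCommGrpCat.of (fib ξ P ⊗[ℤ] fib ξ Q) :=
  (Scheme.pointSmallEtale ξ).presheafFiberDesc
    (fun X x => AddCommGrpCat.ofHom (TensorProduct.map ((Scheme.pointSmallEtale ξ).toPresheafFiber X x P).hom.toIntLinearMap
      ((Scheme.pointSmallEtale ξ).toPresheafFiber X x Q).hom.toIntLinearMap).toAddMonoidHom)
    (fun X Y f x => EtTens.hom_ext_tmul fun p q =>
      congrArg₂ (fun a b => a ⊗ₜ[ℤ] b) (gm_map ξ P f x p) (gm_map ξ Q f x q))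

theorem delta_gm (X : S.Etale) (x : (Scheme.pointSmallEtale ξ).fiber.obj X) (p : P.obj (op X)) (q : Q.obj (op X)) :
    delta ξ P Q (gm ξ (EtTens.tensorObj P Q) X x (p ⊗ₜ q)) = gm ξ P X x p ⊗ₜ[ℤ] gm ξ Q X x q :=
  (ConcreteCategory.congr_hom
    (show (Scheme.pointSmallEtale ξ).toPresheafFiber X x (EtTens.tensorObj P Q) ≫ delta ξ P Q =
        AddCommGrpCat.ofHom (TensorProduct.map ((Scheme.pointSmallEtale ξ).toPresheafFiber X x P).hom.toIntLinearMap
          ((Scheme.pointSmallEtale ξ).toPresheafFiber X x Q).hom.toIntLinearMap).toAddMonoidHom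
      by simp [delta]) (p ⊗ₜ q : P.obj (op X) ⊗[ℤ] Q.obj (op X))).trans rfl

theorem bijective_delta : Function.Bijective (delta ξ P Q) := by
  choose X x p q hp hq using exists_rep₂ ξ P Q
  let t := fun a b => gm ξ (EtTens.tensorObj P Q) (X a b) (x a b) (p a b ⊗ₜ q a b)
  have ht : ∀ (Y : S.Etale) y p' q', t (gm ξ P Y y p') (gm ξ Q Y y q') = gm ξ (EtTens.tensorObj P Q) Y y (p' ⊗ₜ q') :=
    fun Y y p' q' => gm_tmul_congr ξ P Q _ y _ _ p' q' (hp _ _) (hq _ _)
  have hadd : ∀ a a' b, t (a + a') b = t a b + t a' b := by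
    intro a a' b
    obtain ⟨Y, y, r, s, rfl, rfl⟩ := exists_rep₂ ξ P Q a b
    obtain ⟨Z, z, r', rfl⟩ := (Scheme.pointSmallEtale ξ).toPresheafFiber_jointly_surjective (P := P) a'
    obtain ⟨W, w, f, g, rfl, rfl⟩ := exists_common ξ y z
    rw [← gm_map, ← gm_map, ← gm, ← gm_map]
    rw [show gm ξ P W w (P.map f.op r) + gm ξ P W w (P.map g.op r') = gm ξ P W w (P.map f.op r + P.map g.op r') from
      (map_add _ _ _).symm, ht, ht, ht, TensorProduct.add_tmul]
    exact map_add _ _ _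
  have hadd' : ∀ a b b', t a (b + b') = t a b + t a b' := by
    intro a b b'
    obtain ⟨Y, y, r, s, rfl, rfl⟩ := exists_rep₂ ξ P Q a b
    obtain ⟨Z, z, s', rfl⟩ := (Scheme.pointSmallEtale ξ).toPresheafFiber_jointly_surjective (P := Q) b'
    obtain ⟨W, w, f, g, rfl, rfl⟩ := exists_common ξ y z
    rw [← gm_map, ← gm_map, ← gm, ← gm_map]
    rw [show gm ξ Q W w (Q.map f.op s) + gm ξ Q W w (Q.map g.op s') = gm ξ Q W w (Q.map f.op s + Q.map g.op s') from
      (map_add _ _ _).symm, ht, ht, ht, TensorProduct.tmul_add]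
    exact map_add _ _ _
  let T₂ : fib ξ P →+ fib ξ Q →+
      fib ξ (EtTens.tensorObj P Q) :=
    AddMonoidHom.mk' (fun a => AddMonoidHom.mk' (t a) (hadd' a)) fun a a' => AddMonoidHom.ext (hadd a a')
  let τ := TensorProduct.liftAddHom T₂ (fun r a b => by rw [map_zsmul, map_zsmul]; rfl)
  refine Function.bijective_iff_has_inverse.mpr ⟨τ, fun z => ?_, fun w => ?_⟩
  · obtain ⟨Y, y, n, rfl⟩ := (Scheme.pointSmallEtale ξ).toPresheafFiber_jointly_surjective (P := EtTens.tensorObj P Q) z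
    induction n using TensorProduct.induction_on with
    | zero => simp
    | add a b ha hb => rw [map_add, map_add, map_add, ha, hb]
    | tmul r s =>
      rw [← gm, delta_gm]
      exact (TensorProduct.liftAddHom_tmul _ _ _ _).trans (ht Y y r s)
  · induction w using TensorProduct.induction_on with
    | zero => simp
    | add a b ha hb => rw [map_add, map_add, ha, hb]
    | tmul a b =>
      rw [TensorProduct.liftAddHom_tmul]
      show delta ξ P Q (t a b) = _
      rw [delta_gm, hp, hq]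

/-- germs of pulled back sections give the identification of stalks -/
theorem exists_pullGerm {T : Scheme.{u}} (f : S ⟶ T) (η : Spec (CommRingCat.of Ω) ⟶ T) (hξ : ξ ≫ f = η) (G : EtCoh.Ab T) :
    ∃ γ : fib η G.obj ⟶
        fib ξ ((EtCoh.pull f).obj G).obj,
      Function.Bijective γ ∧ ∀ (V : T.Etale) (v : Over.mk η ⟶ (Scheme.Etale.forget T).obj V) (g : EtCoh.sect G V),
        γ (gm η G.obj V v g) = gm ξ ((EtCoh.pull f).obj G).obj ((EtCoh.bc f).obj V)
          (Groth.Agent.EtPushStalk.up f ξ (Over.homMk v.left ((Over.w v).trans hξ.symm)))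
          (((EtCoh.pullPushAdj f).unit.app G).hom.app (op V) g) := by
  subst hξ
  refine ⟨(Groth.Agent.EtStalk.stalkPullIso f ξ).hom.app G, (ConcreteCategory.isIso_iff_bijective _).mp inferInstance,
    fun V v g => ?_⟩
  exact Groth.Agent.EtIntegral.stalkPullIso_germ f ξ G V v g

end Groth.Agent.EtTensorStalk
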